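import Groth.Prelude.Def_Lie2
import Groth.Prelude.Def_LieHopf
import Groth.Prelude.Def_Dyn
import Mathlib.RingTheory.HopfAlgebra.Convolution
import Mathlib.RingTheory.Bialgebra.Convolution

/-! # Products of infinitesimal points of an affine group -/

universe u

open TensorProduct Coalgebra WithConv

namespace Groth.Agent.LiePts20

variable {k : Type u} [CommRing k] {A : Type u} [CommRing A] [HopfAlgebra k A]
variable {R : Type u} [CommRing R] [Algebra k R]

/-- A point as an element of the convolution ring of linear maps. -/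
noncomputable def lin (f : A →ₐ[k] R) : WithConv (A →ₗ[k] R) := toConv f.toLinearMap

theorem lin_conv3 (a b c : A →ₐ[k] R) :
    lin (Dyn.conv3 k A a b c) = lin a * lin b * lin c := by
  refine WithConv.ext (LinearMap.ext fun x => ?_)
  show Dyn.conv3 k A a b c x = (lin a * lin b * lin c) x
  rw [LinearMap.convMul_apply]
  show Algebra.TensorProduct.lmul' k (Algebra.TensorProduct.map _ c (Algebra.TensorProduct.map
    (Bialgebra.comulAlgHom k A) (AlgHom.id k A) (comul (R := k) x))) = _
  induction comul (R := k) x using TensorProduct.induction_on with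
  | zero => simp
  | add p q hp hq => simp only [map_add, hp, hq]
  | tmul p q =>
    simp only [lin, Algebra.TensorProduct.map_tmul, AlgHom.id_apply, ofConv_toConv,
      Algebra.TensorProduct.lmul'_apply_tmul, AlgHom.comp_apply, TensorProduct.map_tmul,
      LinearMap.mul'_apply, AlgHom.toLinearMap_apply, LinearMap.convMul_apply,
      Bialgebra.comulAlgHom_apply]
    congr 1

theorem lin_counit : lin ((Algebra.ofId k R).comp (Bialgebra.counitAlgHom k A)) = 1 := rfl

theorem lin_comp_antipode_mul (f : A →ₐ[k] R) :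
    lin (f.comp (HopfAlgebra.antipodeAlgHom k A)) * lin f = 1 := by
  refine WithConv.ext (LinearMap.ext fun a => ?_)
  show (lin (f.comp (HopfAlgebra.antipodeAlgHom k A)) * lin f) a = (1 : WithConv (A →ₗ[k] R)) a
  rw [LinearMap.convMul_apply, LinearMap.convOne_apply]
  have h := congrArg f (HopfAlgebra.mul_antipode_rTensor_comul_apply (R := k) a)
  rw [f.commutes] at h
  rw [← h]
  induction comul (R := k) a using TensorProduct.induction_on with
  | zero => simp
  | add p q hp hq => simp only [map_add, hp, hq]
  | tmul p q => simp [lin]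

/-- The `R`-valued linear map of a derivation. -/
noncomputable def dR (D : A →ₗ[k] k) : WithConv (A →ₗ[k] R) := toConv (Algebra.linearMap k R ∘ₗ D)

theorem dR_mul (D E : A →ₗ[k] k) : (dR D * dR E : WithConv (A →ₗ[k] R)) = dR (LieHopf.conv D E) := by
  refine WithConv.ext (LinearMap.ext fun a => ?_)
  show (dR D * dR E : WithConv (A →ₗ[k] R)) a = dR (LieHopf.conv D E) a
  rw [LinearMap.convMul_apply]
  show _ = algebraMap k R (LinearMap.mul' k k (TensorProduct.map D E (comul (R := k) a)))
  induction comul (R := k) a using TensorProduct.induction_on with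
  | zero => simp
  | add p q hp hq => simp only [map_add, hp, hq]
  | tmul p q => simp [dR]

theorem dR_sub (D E : A →ₗ[k] k) : (dR (D - E) : WithConv (A →ₗ[k] R)) = dR D - dR E := by
  refine WithConv.ext (LinearMap.ext fun a => ?_)
  simp [dR]

theorem lin_ptOfLie (D : LieHopf.Lie k A) (t : R) (ht : t * t = 0) :
    lin (LieHopf.ptOfLie D R t ht) = 1 + t • dR (LieHopf.dlin D) := by
  refine WithConv.ext (LinearMap.ext fun a => ?_)
  show _ = algebraMap k R (counit (R := k) a) + t • algebraMap k R (LieHopf.dlin D a)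
  rw [smul_eq_mul, mul_comm t]
  rfl

theorem one_add_smul_mul (t : R) (ht : t * t = 0) (F : WithConv (A →ₗ[k] R)) :
    (1 + t • F) * (1 - t • F) = 1 := by
  rw [add_mul, one_mul, mul_sub, mul_one, smul_mul_smul_comm, ht, zero_smul, sub_zero, sub_add_cancel]

theorem lin_ptOfLie_antipode (D : LieHopf.Lie k A) (t : R) (ht : t * t = 0) :
    lin ((LieHopf.ptOfLie D R t ht).comp (HopfAlgebra.antipodeAlgHom k A)) =
      1 - t • dR (LieHopf.dlin D) :=
  left_inv_eq_right_inv (lin_comp_antipode_mul _) (by rw [lin_ptOfLie]; exact one_add_smul_mul t ht _)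

theorem commutator_eq {S : Type*} [Ring S] [Algebra R S] (t t' : R) (ht : t * t = 0) (ht' : t' * t' = 0)
    (D E : S) : (1 + t • D) * (1 + t' • E) * (1 - t • D) * (1 - t' • E) = 1 + (t * t') • (D * E - E * D) := by
  have h1 : ∀ X : S, t • (t • X) = 0 := fun X => by rw [smul_smul, ht, zero_smul]
  have h2 : ∀ X : S, t' • (t' • X) = 0 := fun X => by rw [smul_smul, ht', zero_smul]
  have h3 : ∀ X : S, t' • (t • X) = t • (t' • X) := fun X => smul_comm t' t X
  have h4 : ∀ X : S, t • (t' • (t • X)) = 0 := fun X => by rw [h3, h1]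
  simp only [add_mul, mul_add, sub_mul, mul_sub, one_mul, mul_one, smul_mul_assoc, mul_smul_comm,
    smul_add, smul_sub, smul_zero, zero_mul, add_zero, sub_zero, h1, h2, h3, h4, mul_smul]
  abel

theorem conv3_commutator (D E : LieHopf.Lie k A) (t t' : R) (ht : t * t = 0) (ht' : t' * t' = 0) :
    lin (Dyn.conv3 k A
        (Dyn.conv3 k A (LieHopf.ptOfLie D R t ht) (LieHopf.ptOfLie E R t' ht')
          ((LieHopf.ptOfLie D R t ht).comp (HopfAlgebra.antipodeAlgHom k A)))
        ((LieHopf.ptOfLie E R t' ht').comp (HopfAlgebra.antipodeAlgHom k A))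
        ((Algebra.ofId k R).comp (Bialgebra.counitAlgHom k A))) =
      1 + (t * t') • dR (LieHopf.bracketLin D E) := by
  rw [lin_conv3, lin_conv3, lin_counit, mul_one, lin_ptOfLie_antipode, lin_ptOfLie_antipode,
    lin_ptOfLie, lin_ptOfLie, commutator_eq t t' ht ht', dR_mul, dR_mul, ← dR_sub]
  rfl

theorem snd_conv3 (φ ψ : LieHopf.LiePts k A) (a : A) :
    TrivSqZeroExt.snd (Dyn.conv3 k A φ.1 ψ.1
        ((Algebra.ofId k (DualNumber k)).comp (Bialgebra.counitAlgHom k A)) a) =
      LieHopf.LiePts.tangent k A φ a + LieHopf.LiePts.tangent k A ψ a := by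
  show TrivSqZeroExt.snd (lin (Dyn.conv3 k A φ.1 ψ.1
        ((Algebra.ofId k (DualNumber k)).comp (Bialgebra.counitAlgHom k A))) a) = _
  rw [lin_conv3, lin_counit, mul_one, LinearMap.convMul_apply]
  have key : ∀ x : A ⊗[k] A, TrivSqZeroExt.snd (LinearMap.mul' k (DualNumber k)
      (TensorProduct.map (lin φ.1).ofConv (lin ψ.1).ofConv x)) =
      TrivSqZeroExt.snd (φ.1 (TensorProduct.rid k A (TensorProduct.map LinearMap.id counit x))) +
        TrivSqZeroExt.snd (ψ.1 (TensorProduct.lid k A (TensorProduct.map counit LinearMap.id x))) := by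
    intro x
    induction x using TensorProduct.induction_on with
    | zero => simp
    | add p q hp hq => simp only [map_add, TrivSqZeroExt.snd_add, hp, hq]; abel
    | tmul p q =>
      simp only [lin, TensorProduct.map_tmul, LinearMap.mul'_apply, ofConv_toConv,
        AlgHom.toLinearMap_apply, LinearMap.id_apply, TensorProduct.rid_tmul, TensorProduct.lid_tmul,
        map_smul, TrivSqZeroExt.snd_mul, TrivSqZeroExt.snd_smul, φ.2, ψ.2,
        Bialgebra.counitAlgHom_apply, smul_eq_mul, op_smul_eq_smul]
      ring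
  rw [key]
  simp only [← LinearMap.rTensor_def, ← LinearMap.lTensor_def, Coalgebra.rTensor_counit_comul,
    Coalgebra.lTensor_counit_comul, TensorProduct.rid_tmul, TensorProduct.lid_tmul, one_smul]
  rfl

end Groth.Agent.LiePts20
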